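import Groth.Agent.McCoy.Resolution
import Groth.Agent.CAlgOdd.AuslanderBuchsbaum
import Groth.Agent.Alg6.AssDepth
import Groth.Agent.LC.DepthLoc
import Mathlib

/-!
Ranks and determinantal ideals of an exact complex of finite free modules over a local ring.
-/

set_option linter.style.haveILetI false

open scoped Matrix

namespace Groth.Agent.H1BE

open Groth.Agent RegLoc6 IsLocalRing

universe u

variable {Q : Type u} [CommRing Q]

theorem det_mul_eq_zero_of_lt {r s : ℕ} (h : r < s) (B : Matrix (Fin s) (Fin r) Q)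
    (C : Matrix (Fin r) (Fin s) Q) : (B * C).det = 0 := by
  let B' : Matrix (Fin s) (Fin s) Q := fun i j => if hj : (j : ℕ) < r then B i ⟨j, hj⟩ else 0
  let C' : Matrix (Fin s) (Fin s) Q := fun i j => if hi : (i : ℕ) < r then C ⟨i, hi⟩ j else 0
  have e : B * C = B' * C' := by
    ext i j
    rw [Matrix.mul_apply, Matrix.mul_apply]
    symm
    rw [← Finset.sum_subset (Finset.subset_univ ((Finset.univ : Finset (Fin r)).map (Fin.castLEEmb h.le))),
      Finset.sum_map]
    · exact Finset.sum_congr rfl fun k _ => by simp [B', C']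
    · intro x _ hx
      have : ¬ (x : ℕ) < r := fun hxr => hx (Finset.mem_map.mpr ⟨⟨x, hxr⟩, Finset.mem_univ _, rfl⟩)
      simp [B', this]
  rw [e, Matrix.det_mul, Matrix.det_eq_zero_of_column_eq_zero (A := B') ⟨r, h⟩ (fun i => by simp [B']), zero_mul]

theorem exists_isUnit_det [IsLocalRing Q] {p r : ℕ} (B : Matrix (Fin p) (Fin r) Q) (L : Matrix (Fin r) (Fin p) Q)
    (hL : L * B = 1) : ∃ f : Fin r → Fin p, IsUnit (B.submatrix f id).det := by
  let π := residue Q
  have hinj : Function.Injective (B.map π).mulVecLin := by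
    refine Function.LeftInverse.injective (g := (L.map π).mulVecLin) fun v => ?_
    rw [Matrix.mulVecLin_apply, Matrix.mulVecLin_apply, Matrix.mulVec_mulVec, ← Matrix.map_mul, hL,
      Matrix.map_one π (map_zero π) (map_one π), Matrix.one_mulVec]
  have hne := McCoy.minorIdeal_ne_bot _ ((McCoy.injective_iff _).mp hinj)
  rw [McCoy.minorIdeal_max_eq_span, Ne, Ideal.span_eq_bot] at hne
  push Not at hne
  obtain ⟨_, ⟨f, rfl⟩, hf⟩ := hne
  refine ⟨f, ?_⟩
  by_contra hu
  refine hf ?_
  show ((B.map π).submatrix f id).det = 0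
  rw [show (B.map π).submatrix f id = (B.submatrix f id).map π from rfl, ← RingHom.mapMatrix_apply,
    ← RingHom.map_det]
  exact (residue_eq_zero_iff _).mpr hu

/-- A map of free modules over a local ring with projective cokernel has unit minors of size its rank. -/
theorem minors_of_projective [IsLocalRing Q] [IsNoetherianRing Q] {p q : ℕ} (M : Matrix (Fin p) (Fin q) Q)
    (hP : Module.Projective Q ((Fin p → Q) ⧸ LinearMap.range M.mulVecLin)) :
    ∃ r : ℕ, CAlgX.minorIdeal M r = ⊤ ∧ (∀ s, r < s → CAlgX.minorIdeal M s = ⊥) ∧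
      Module.finrank Q (LinearMap.range M.mulVecLin) = r ∧
      Module.finrank Q ((Fin p → Q) ⧸ LinearMap.range M.mulVecLin) + r = p := by
  classical
  let N := LinearMap.range M.mulVecLin
  obtain ⟨s, hs⟩ := Module.projective_lifting_property N.mkQ LinearMap.id N.mkQ_surjective
  let ret : (Fin p → Q) →ₗ[Q] N := LinearMap.codRestrict N (LinearMap.id - s.comp N.mkQ) fun x => by
    rw [← Submodule.Quotient.mk_eq_zero]
    have := LinearMap.congr_fun hs (N.mkQ x)
    simp only [LinearMap.coe_comp, Function.comp_apply, LinearMap.id_apply, Submodule.mkQ_apply] at this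
    simp [this]
  have hret : ∀ y : N, ret y = y := fun y => Subtype.ext (by
    simp [ret, (Submodule.Quotient.mk_eq_zero N).mpr y.2])
  haveI : Module.Projective Q N := Module.Projective.of_split N.subtype ret (LinearMap.ext hret)
  haveI : Module.Free Q N := Module.free_of_flat_of_isLocalRing
  haveI : Module.Free Q ((Fin p → Q) ⧸ N) := Module.free_of_flat_of_isLocalRing
  let r := Module.finrank Q N
  let b : Module.Basis (Fin r) Q N := Module.finBasis Q N
  let Bl : (Fin r → Q) →ₗ[Q] (Fin p → Q) := N.subtype.comp b.equivFun.symm.toLinearMap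
  let Cl : (Fin q → Q) →ₗ[Q] (Fin r → Q) := b.equivFun.toLinearMap.comp M.mulVecLin.rangeRestrict
  let Ll : (Fin p → Q) →ₗ[Q] (Fin r → Q) := b.equivFun.toLinearMap.comp ret
  have hCs : Function.Surjective Cl := b.equivFun.surjective.comp M.mulVecLin.surjective_rangeRestrict
  obtain ⟨Dl, hD⟩ := Module.projective_lifting_property Cl LinearMap.id hCs
  let B := LinearMap.toMatrix' Bl
  let C := LinearMap.toMatrix' Cl
  have hM : M = B * C := by
    rw [← LinearMap.toMatrix'_comp]
    conv_lhs => rw [← LinearMap.toMatrix'_toLin' M]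
    congr 1
    refine LinearMap.ext fun v => ?_
    simp [Bl, Cl]
  have hLB : LinearMap.toMatrix' Ll * B = 1 := by
    rw [← LinearMap.toMatrix'_comp, ← LinearMap.toMatrix'_id]
    congr 1
    refine LinearMap.ext fun v => ?_
    show b.equivFun (ret ((b.equivFun.symm v : N) : Fin p → Q)) = v
    rw [hret, LinearEquiv.apply_symm_apply]
  have hDC : C * LinearMap.toMatrix' Dl = 1 := by
    rw [← LinearMap.toMatrix'_comp, hD, LinearMap.toMatrix'_id]
  refine ⟨r, ?_, fun s hs => ?_, rfl, ?_⟩
  · obtain ⟨f, hf⟩ := exists_isUnit_det B _ hLB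
    obtain ⟨g, hg⟩ := exists_isUnit_det C.transpose (LinearMap.toMatrix' Dl).transpose
      (by rw [← Matrix.transpose_mul, hDC, Matrix.transpose_one])
    rw [show C.transpose.submatrix g id = (C.submatrix id g).transpose from rfl, Matrix.det_transpose] at hg
    refine Ideal.eq_top_of_isUnit_mem _ (McCoy.det_mem_minorIdeal M f g) ?_
    rw [hM, Matrix.submatrix_mul B C f id g Function.bijective_id, Matrix.det_mul]
    exact hf.mul hg
  · refine le_bot_iff.1 (Ideal.span_le.2 ?_)
    rintro _ ⟨⟨f, g⟩, rfl⟩
    show (M.submatrix f g).det ∈ (⊥ : Ideal Q)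
    rw [hM, Matrix.submatrix_mul B C f id g Function.bijective_id, det_mul_eq_zero_of_lt hs]
    exact zero_mem _
  · let φ : (Fin p → Q) →ₗ[Q] N × ((Fin p → Q) ⧸ N) := ret.prod N.mkQ
    have hφ : Function.Bijective φ := by
      constructor
      · refine (injective_iff_map_eq_zero φ).mpr fun x hx => ?_
        have h1 : ret x = 0 := congrArg Prod.fst hx
        have h2 : x ∈ N := (Submodule.Quotient.mk_eq_zero N).mp (congrArg Prod.snd hx)
        have := congrArg Subtype.val ((hret ⟨x, h2⟩).symm.trans h1)
        exact this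
      · rintro ⟨y, z⟩
        refine ⟨(y : Fin p → Q) + s z, Prod.ext ?_ ?_⟩
        · show ret ((y : Fin p → Q) + s z) = y
          rw [map_add, hret, add_eq_left]
          refine Subtype.ext ?_
          have := LinearMap.congr_fun hs z
          simp only [LinearMap.coe_comp, Function.comp_apply, LinearMap.id_apply, Submodule.mkQ_apply] at this
          simp [ret, this]
        · have := LinearMap.congr_fun hs z
          simp only [LinearMap.coe_comp, Function.comp_apply, LinearMap.id_apply, Submodule.mkQ_apply] at this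
          show N.mkQ ((y : Fin p → Q) + s z) = z
          simp [this, (Submodule.Quotient.mk_eq_zero N).mpr y.2]
    have := (LinearEquiv.ofBijective φ hφ).finrank_eq
    rw [Module.finrank_prod, Module.finrank_pi, Fintype.card_fin] at this
    show Module.finrank Q ((Fin p → Q) ⧸ N) + r = p
    omega

section Complex

variable {n : ℕ → ℕ} {e : ℕ} (A : (i : ℕ) → Matrix (Fin (n i)) (Fin (n (i + 1))) Q)

/-- The cokernel of the `i`th map. -/
abbrev Cok (i : ℕ) : Type u := (Fin (n i) → Q) ⧸ LinearMap.range (A i).mulVecLin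

variable (hex : ∀ i, i < e → LinearMap.ker (A i).mulVecLin = LinearMap.range (A (i + 1)).mulVecLin)

include hex in
theorem cok_equiv_range {i : ℕ} (hi : i < e) :
    Nonempty (Cok A (i + 1) ≃ₗ[Q] LinearMap.range (A i).mulVecLin) :=
  ⟨(Submodule.quotEquivOfEq _ _ (hex i hi).symm).trans (A i).mulVecLin.quotKerEquivRange⟩

include hex in
theorem ker_mkQ_pd {i k : ℕ} (hi : i < e) (h : PdLE Q (k + 1) (Cok A i)) : PdLE Q k (Cok A (i + 1)) := by
  obtain ⟨ε⟩ := cok_equiv_range A hex hi
  have h' := pdLE_ker (LinearMap.range (A i).mulVecLin).mkQ (Submodule.mkQ_surjective _) h (pdLE_of_projective k)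
  exact pdLE_of_equiv ((LinearEquiv.ofEq _ _ (Submodule.ker_mkQ _)).trans ε.symm) h'

variable (htop : A e = 0)

include htop in
theorem projective_top : Module.Projective Q (Cok A e) := by
  have h : LinearMap.range (A e).mulVecLin = ⊥ := by
    rw [htop, Matrix.mulVecLin_zero, LinearMap.range_zero]
  exact Module.Projective.of_equiv' (((Submodule.quotEquivOfEq _ _ h).trans (Submodule.quotEquivOfEqBot _ rfl)).symm)

include hex htop in
theorem pdLE_cok : ∀ j i, i + j = e → PdLE Q j (Cok A i) := by
  intro j
  induction j with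
  | zero =>
    rintro i rfl
    exact pdLE_zero_iff.mpr (projective_top A htop)
  | succ j ih =>
    intro i hi
    obtain ⟨ε⟩ := cok_equiv_range A hex (i := i) (by omega)
    exact pdLE_succ_of_ker (LinearMap.range (A i).mulVecLin).mkQ (Submodule.mkQ_surjective _)
      (pdLE_of_equiv (ε.trans (LinearEquiv.ofEq _ _ (Submodule.ker_mkQ _).symm)) (ih (i + 1) (by omega)))
      (pdLE_of_projective _)

variable [IsLocalRing Q] [IsNoetherianRing Q]

include hex htop in
/-- If the depth is at most `k`, the cokernels from the `k`th on are projective. -/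
theorem projective_of_depth_le {k : ℕ} (hd : LocCoh.depth Q Q ≤ (k : ℕ∞)) :
    ∀ i, k ≤ i → i ≤ e → Module.Projective Q (Cok A i) := by
  classical
  have h0 : PdLE Q k (Cok A 0) := by
    rcases subsingleton_or_nontrivial (Cok A 0) with hs | hs
    · exact pdLE_of_projective k
    have hex' : ∃ m, PdLE Q m (Cok A 0) := ⟨e, pdLE_cok A hex htop e 0 (zero_add e)⟩
    have h := CAlgOdd.AB.depth_add_eq (Nat.find hex') (Cok A 0) (Nat.find_spec hex')
      fun m hm => Nat.find_min hex' hm
    refine pdLE_mono ?_ (Nat.find_spec hex')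
    have : ((Nat.find hex' : ℕ) : ℕ∞) ≤ k := (le_add_self.trans_eq h).trans hd
    exact_mod_cast this
  have hall : ∀ i, i ≤ e → PdLE Q (k - i) (Cok A i) := by
    intro i
    induction i with
    | zero => exact fun _ => h0
    | succ i ih =>
      intro hi
      refine ker_mkQ_pd A hex (by omega) (pdLE_mono ?_ (ih (by omega)))
      omega
  intro i hki hie
  refine pdLE_zero_iff.mp ?_
  have := hall i hie
  rwa [Nat.sub_eq_zero_of_le hki] at this

/-- The expected rank of the `k`th map. -/
def expRank (n : ℕ → ℕ) (e k : ℕ) : ℤ := ∑ t ∈ Finset.Icc (k + 1) e, (-1 : ℤ) ^ (t - (k + 1)) * (n t : ℤ)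

theorem expRank_step (n : ℕ → ℕ) {e k : ℕ} (hk : k < e) :
    expRank n e k = (n (k + 1) : ℤ) - expRank n e (k + 1) := by
  unfold expRank
  rw [← Finset.add_sum_Ioc_eq_sum_Icc (by omega : k + 1 ≤ e), show Finset.Ioc (k + 1) e = Finset.Icc (k + 1 + 1) e by ext; simp]
  simp only [Nat.sub_self, pow_zero, one_mul, sub_eq_add_neg, ← Finset.sum_neg_distrib]
  congr 1
  refine Finset.sum_congr rfl fun t ht => ?_
  rw [Finset.mem_Icc] at ht
  rw [show t - (k + 1) = t - (k + 1 + 1) + 1 by omega, pow_succ]
  ring

include hex htop in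
/-- The determinantal ideals where the depth is small. -/
theorem minors_of_depth_le {k : ℕ} (hd : LocCoh.depth Q Q ≤ (k : ℕ∞)) (hke : k ≤ e) :
    ∃ r : ℕ, (r : ℤ) = expRank n e k ∧ CAlgX.minorIdeal (A k) r = ⊤ ∧
      ∀ s, r < s → CAlgX.minorIdeal (A k) s = ⊥ := by
  have hproj := projective_of_depth_le A hex htop hd
  have hr : ∀ j i, i + j = e → k ≤ i →
      (Module.finrank Q (LinearMap.range (A i).mulVecLin) : ℤ) = expRank n e i := by
    intro j
    induction j with
    | zero =>
      rintro i rfl -
      have h : LinearMap.range (A i).mulVecLin = ⊥ := by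
        rw [show A i = 0 from htop, Matrix.mulVecLin_zero, LinearMap.range_zero]
      rw [h, finrank_bot, expRank, Finset.Icc_eq_empty (by omega)]
      simp
    | succ j ih =>
      intro i hi hki
      obtain ⟨ε⟩ := cok_equiv_range A hex (i := i) (by omega)
      obtain ⟨r, -, -, hr1, hr2⟩ := minors_of_projective (A (i + 1)) (hproj (i + 1) (by omega) (by omega))
      rw [← ε.finrank_eq, expRank_step n (by omega), ← ih (i + 1) (by omega) (by omega)]
      have : Module.finrank Q (Cok A (i + 1)) + r = n (i + 1) := hr2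
      omega
  obtain ⟨r, h1, h2, h3, -⟩ := minors_of_projective (A k) (hproj k le_rfl hke)
  exact ⟨r, by rw [← h3]; exact hr (e - k) k (by omega) le_rfl, h1, h2⟩

end Complex

theorem minorIdeal_map {R S : Type u} [CommRing R] [CommRing S] (f : R →+* S) {p q : Type} [Fintype p] [Fintype q]
    (M : Matrix p q R) (r : ℕ) : CAlgX.minorIdeal (M.map f) r = (CAlgX.minorIdeal M r).map f := by
  unfold CAlgX.minorIdeal
  rw [Ideal.map_span, ← Set.range_comp]
  congr 1
  ext x
  simp only [Set.mem_range, Function.comp_apply]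
  refine exists_congr fun fg => Eq.congr_left ?_
  rw [RingHom.map_det]
  rfl

end Groth.Agent.H1BE
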